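import Cfsg.Agent.H411.PrA.Defs

/-!
# S3618, part A: the combinatorial structure `Geo` (helper117), flats
-/

set_option autoImplicit false

open Equiv Equiv.Perm MulAction Cfsg.Agent.H411.PrA
open scoped Pointwise

namespace Cfsg.Agent.H117.PrA

universe u

variable {Ω : Type u} {p m B ε : ℕ} {XX : Set (Perm Ω)}

/-- the flat of `T` at `a` -/
def Fl (g : Geo p m B ε XX) (a : Ω) (T : Finset (Fin m)) : Set Ω :=
  {y | ∀ x ∈ XX, x a = a → Disjoint (g.P a x) T → x y = y}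

theorem NF.symm' {a b : Ω} (h : NF XX a b) : NF XX b a := by
  obtain ⟨x, hx, h1, h2⟩ := h
  exact ⟨x, hx, h2, h1⟩

theorem self_mem (g : Geo p m B ε XX) (a : Ω) (T : Finset (Fin m)) : a ∈ Fl g a T := fun _ _ h _ => h

theorem exists_dis_mem (g : Geo p m B ε XX) (a : Ω) {T : Finset (Fin m)} (hT : T.card + p ≤ m) (hp : 1 ≤ p)
    {s : Fin m} (hs : s ∉ T) : ∃ x ∈ XX, x a = a ∧ Disjoint (g.P a x) T ∧ s ∈ g.P a x := by
  classical
  have h1 : ({s} : Finset (Fin m)) ⊆ Tᶜ := by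
    intro t ht
    rw [Finset.mem_singleton] at ht
    rw [ht, Finset.mem_compl]
    exact hs
  obtain ⟨U, hU1, hU2, hU3⟩ := Finset.exists_subsuperset_card_eq h1 (n := p) (by simpa using hp)
    (by rw [Finset.card_compl, Fintype.card_fin]; omega)
  obtain ⟨x, hx, hxa, hxU⟩ := g.surj_P a U hU3
  refine ⟨x, hx, hxa, ?_, ?_⟩
  · rw [hxU, Finset.disjoint_left]
    intro t ht
    exact Finset.mem_compl.1 (hU2 ht)
  · rw [hxU]
    exact hU1 (Finset.mem_singleton_self s)

theorem exists_dis (g : Geo p m B ε XX) (a : Ω) {T : Finset (Fin m)} (hT : T.card + p ≤ m) :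
    ∃ x ∈ XX, x a = a ∧ Disjoint (g.P a x) T := by
  classical
  obtain ⟨U, hU1, hU2⟩ := Finset.exists_subset_card_eq (s := Tᶜ) (n := p)
    (by rw [Finset.card_compl, Fintype.card_fin]; omega)
  obtain ⟨x, hx, hxa, hxU⟩ := g.surj_P a U hU2
  refine ⟨x, hx, hxa, ?_⟩
  rw [hxU, Finset.disjoint_left]
  intro t ht
  exact Finset.mem_compl.1 (hU1 ht)

theorem mem_Fl (g : Geo p m B ε XX) {a : Ω} {T : Finset (Fin m)} (hT : T.card + p ≤ m) (hp : 1 ≤ p) {y : Ω} :
    y ∈ Fl g a T ↔ y = a ∨ (a ≠ y ∧ NF XX a y ∧ g.S a y ⊆ T) := by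
  constructor
  · intro h
    by_cases hya : y = a
    · exact Or.inl hya
    right
    obtain ⟨x, hx, hxa, hd⟩ := exists_dis g a hT
    have hN : NF XX a y := ⟨x, hx, hxa, h x hx hxa hd⟩
    refine ⟨Ne.symm hya, hN, ?_⟩
    intro s hs
    by_contra hsT
    obtain ⟨x', hx', hxa', hd', hs'⟩ := exists_dis_mem g a hT hp hsT
    have h1 := (g.fix_iff a y (Ne.symm hya) hN x' hx' hxa').1 (h x' hx' hxa' hd')
    exact (Finset.disjoint_left.1 h1 hs' hs)
  · rintro (rfl | ⟨h1, h2, h3⟩)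
    · exact self_mem g _ _
    · intro x hx hxa hd
      exact (g.fix_iff a y h1 h2 x hx hxa).2 (hd.mono_right h3)

theorem card_Fl [Finite Ω] (g : Geo p m B ε XX) (a : Ω) {T : Finset (Fin m)} (hT : T.card + p ≤ m) (hp : 1 ≤ p) :
    (Fl g a T).ncard = 1 + B * T.card + ε * T.card.choose 2 := by
  classical
  have := Fintype.ofFinite Ω
  set N : Finset Ω := Finset.univ.filter (fun y => a ≠ y ∧ NF XX a y ∧ g.S a y ⊆ T) with hN
  have h1 : Fl g a T = insert a (N : Set Ω) := by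
    ext y
    rw [mem_Fl g hT hp, Set.mem_insert_iff, Finset.mem_coe, hN, Finset.mem_filter]
    simp only [Finset.mem_univ, true_and]
  have h2 : a ∉ (N : Set Ω) := by
    rw [Finset.mem_coe, hN, Finset.mem_filter]
    rintro ⟨-, h, -⟩
    exact h rfl
  rw [h1, Set.ncard_insert_of_notMem h2 (Finset.finite_toSet N), Set.ncard_coe_finset]
  have h3 : ∀ y ∈ N, g.S a y ∈ Finset.powersetCard 1 T ∪ Finset.powersetCard 2 T := by
    intro y hy
    rw [hN, Finset.mem_filter] at hy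
    obtain ⟨-, h4, h5, h6⟩ := hy
    have h7 := g.card_S a y h4 h5
    rw [Finset.mem_union, Finset.mem_powersetCard, Finset.mem_powersetCard]
    rcases (show (g.S a y).card = 1 ∨ (g.S a y).card = 2 by omega) with h | h
    · exact Or.inl ⟨h6, h⟩
    · exact Or.inr ⟨h6, h⟩
  rw [Finset.card_eq_sum_card_fiberwise h3, Finset.sum_union]
  · have h4 : ∀ U ∈ Finset.powersetCard 1 T, (N.filter (fun y => g.S a y = U)).card = B := by
      intro U hU
      rw [Finset.mem_powersetCard, Finset.card_eq_one] at hU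
      obtain ⟨hU1, i, rfl⟩ := hU
      refine Eq.trans ?_ (g.card_B a i)
      rw [← Set.ncard_coe_finset]
      congr 1
      ext y
      simp only [Finset.coe_filter, hN, Finset.mem_filter, Finset.mem_univ, true_and, Set.mem_ofPred_eq]
      constructor
      · rintro ⟨⟨h5, h6, -⟩, h7⟩
        exact ⟨h5, h6, h7⟩
      · rintro ⟨h5, h6, h7⟩
        exact ⟨⟨h5, h6, h7 ▸ hU1⟩, h7⟩
    have h5 : ∀ U ∈ Finset.powersetCard 2 T, (N.filter (fun y => g.S a y = U)).card = ε := by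
      intro U hU
      rw [Finset.mem_powersetCard, Finset.card_eq_two] at hU
      obtain ⟨hU1, i, j, hij, rfl⟩ := hU
      refine Eq.trans ?_ (g.card_ε a i j hij)
      rw [← Set.ncard_coe_finset]
      congr 1
      ext y
      simp only [Finset.coe_filter, hN, Finset.mem_filter, Finset.mem_univ, true_and, Set.mem_ofPred_eq]
      constructor
      · rintro ⟨⟨h5, h6, -⟩, h7⟩
        exact ⟨h5, h6, h7⟩
      · rintro ⟨h5, h6, h7⟩
        exact ⟨⟨h5, h6, h7 ▸ hU1⟩, h7⟩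
    rw [Finset.sum_congr rfl h4, Finset.sum_congr rfl h5, Finset.sum_const, Finset.sum_const,
      Finset.card_powersetCard, Finset.card_powersetCard, Nat.choose_one_right, smul_eq_mul, smul_eq_mul]
    ring
  · rw [Finset.disjoint_left]
    intro U h4 h5
    rw [Finset.mem_powersetCard] at h4 h5
    omega

/-- change of base point -/
theorem rebase (g : Geo p m B ε XX) {a c : Ω} {T : Finset (Fin m)} (hT : T.card + p ≤ m)
    (hc : c ∈ Fl g a T) : ∃ T' : Finset (Fin m), T'.card + p ≤ m ∧ Fl g a T = Fl g c T' ∧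
      (∀ y ∈ Fl g a T, y ≠ c → NF XX c y ∧ g.S c y ⊆ T') ∧
      (∀ t ∈ T', ∃ y ∈ Fl g a T, y ≠ c ∧ t ∈ g.S c y) := by
  classical
  set T' : Finset (Fin m) := Finset.univ.filter (fun t => ∃ y ∈ Fl g a T, y ≠ c ∧ t ∈ g.S c y) with hT'
  have hN : ∀ y ∈ Fl g a T, NF XX c y := by
    intro y hy
    obtain ⟨x, hx, hxa, hd⟩ := exists_dis g a hT
    exact ⟨x, hx, hc x hx hxa hd, hy x hx hxa hd⟩
  have hd' : ∀ x ∈ XX, x a = a → Disjoint (g.P a x) T → Disjoint (g.P c x) T' := by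
    intro x hx hxa hd
    rw [Finset.disjoint_right]
    intro t ht
    rw [hT', Finset.mem_filter] at ht
    obtain ⟨-, y, hy, hyc, hty⟩ := ht
    have h1 := (g.fix_iff c y (Ne.symm hyc) (hN y hy) x hx (hc x hx hxa hd)).1 (hy x hx hxa hd)
    exact Finset.disjoint_right.1 h1 hty
  have hS : ∀ y ∈ Fl g a T, y ≠ c → g.S c y ⊆ T' := by
    intro y hy hyc t ht
    rw [hT', Finset.mem_filter]
    exact ⟨Finset.mem_univ _, y, hy, hyc, ht⟩
  refine ⟨T', ?_, ?_, fun y hy hyc => ⟨hN y hy, hS y hy hyc⟩, ?_⟩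
  · obtain ⟨x, hx, hxa, hd⟩ := exists_dis g a hT
    have h1 := hd' x hx hxa hd
    have h2 := Finset.card_le_univ (g.P c x ∪ T')
    rw [Finset.card_union_of_disjoint h1, g.card_P c x hx (hc x hx hxa hd), Fintype.card_fin] at h2
    omega
  · ext y
    constructor
    · intro hy
      by_cases hyc : y = c
      · rw [hyc]; exact self_mem g _ _
      · intro x hx hxc hd
        exact (g.fix_iff c y (Ne.symm hyc) (hN y hy) x hx hxc).2 (hd.mono_right (hS y hy hyc))
    · intro hy x hx hxa hd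
      exact hy x hx (hc x hx hxa hd) (hd' x hx hxa hd)
  · intro t ht
    rw [hT', Finset.mem_filter] at ht
    exact ht.2

theorem rank_inj (hB : 1 ≤ B) {r s : ℕ} (h : 1 + B * r + ε * r.choose 2 = 1 + B * s + ε * s.choose 2) : r = s := by
  rcases lt_trichotomy r s with h1 | h1 | h1
  · have h2 := Nat.choose_le_choose 2 h1.le
    have h3 : ε * r.choose 2 ≤ ε * s.choose 2 := Nat.mul_le_mul_left _ h2
    have h4 : B * r < B * s := Nat.mul_lt_mul_of_pos_left h1 hB
    omega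
  · exact h1
  · have h2 := Nat.choose_le_choose 2 h1.le
    have h3 : ε * s.choose 2 ≤ ε * r.choose 2 := Nat.mul_le_mul_left _ h2
    have h4 : B * s < B * r := Nat.mul_lt_mul_of_pos_left h1 hB
    omega

theorem rebase' [Finite Ω] (g : Geo p m B ε XX) (hB : 1 ≤ B) (hp : 1 ≤ p) {a c : Ω} {T : Finset (Fin m)}
    (hT : T.card + p ≤ m) (hc : c ∈ Fl g a T) : ∃ T' : Finset (Fin m), T'.card = T.card ∧ Fl g a T = Fl g c T' ∧
      (∀ y ∈ Fl g a T, y ≠ c → NF XX c y ∧ g.S c y ⊆ T') := by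
  obtain ⟨T', h1, h2, h3, -⟩ := rebase g hT hc
  refine ⟨T', ?_, h2, h3⟩
  have h4 := card_Fl g a hT hp
  rw [h2, card_Fl g c h1 hp] at h4
  exact rank_inj hB h4

theorem Geo.card_closure (g : Geo p m B ε XX) [Finite Ω] (hm : p + 3 ≤ m) (hp : 3 ≤ p) (a : Ω) (T : Finset (Fin m))
    (hT : T.card + p ≤ m) :
    {y | ∀ x ∈ XX, x a = a → Disjoint (g.P a x) T → x y = y}.ncard = 1 + B * T.card + ε * T.card.choose 2 :=
  card_Fl g a hT (by omega)

theorem near_symm [Finite Ω] (g : Geo p m B ε XX) (hm : p + 1 ≤ m) (hB : 1 ≤ B) (hp : 1 ≤ p) {a b : Ω}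
    (h : g.Near a b) : g.Near b a := by
  obtain ⟨hab, hN, h1⟩ := h
  have hb : b ∈ Fl g a (g.S a b) := (mem_Fl g (by omega) hp).2 (Or.inr ⟨hab, hN, Finset.Subset.refl _⟩)
  obtain ⟨T', h2, h3, h4⟩ := rebase' g hB hp (by omega) hb
  obtain ⟨h5, h6⟩ := h4 a (self_mem g _ _) hab
  refine ⟨hab.symm, h5, ?_⟩
  have h7 := Finset.card_le_card h6
  have h8 := g.card_S b a hab.symm h5
  omega

theorem Geo.symm (g : Geo p m B ε XX) [Finite Ω] (hm : p + 3 ≤ m) (hp : 3 ≤ p) (hBe : 1 ≤ B + ε) (a b : Ω) (hab : a ≠ b)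
    (hn : NF XX a b) : (g.S a b).card = (g.S b a).card := by
  have h1 := g.card_S a b hab hn
  have h2 := g.card_S b a hab.symm (NF.symm' hn)
  rcases Nat.eq_zero_or_pos B with h0 | hB
  · have h3 : ∀ c d : Ω, c ≠ d → NF XX c d → (g.S c d).card ≠ 1 := by
      intro c d hcd hN h4
      rw [Finset.card_eq_one] at h4
      obtain ⟨i, hi⟩ := h4
      have h5 := (g.card_B c i).trans h0
      rw [Set.ncard_eq_zero] at h5
      have h6 : d ∈ {b | c ≠ b ∧ NF XX c b ∧ g.S c b = {i}} := ⟨hcd, hN, hi⟩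
      rw [h5] at h6
      exact h6
    have h4 := h3 a b hab hn
    have h5 := h3 b a hab.symm (NF.symm' hn)
    omega
  · have h3 : (g.S a b).card = 1 → (g.S b a).card = 1 := fun h =>
      (near_symm g (by omega) hB (by omega) ⟨hab, hn, h⟩).2.2
    have h4 : (g.S b a).card = 1 → (g.S a b).card = 1 := fun h =>
      (near_symm g (by omega) hB (by omega) ⟨hab.symm, NF.symm' hn, h⟩).2.2
    omega

/-- points fixed by all members of `XX` which fix `a` and `b` -/
def Ln (XX : Set (Perm Ω)) (a b : Ω) : Set Ω := {y | ∀ x ∈ XX, x a = a → x b = b → x y = y}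

theorem Fl_eq_Ln (g : Geo p m B ε XX) {a b : Ω} (hab : a ≠ b) (hN : NF XX a b) :
    Fl g a (g.S a b) = Ln XX a b := by
  ext y
  constructor
  · intro h x hx hxa hxb
    exact h x hx hxa ((g.fix_iff a b hab hN x hx hxa).1 hxb)
  · intro h x hx hxa hd
    exact h x hx hxa ((g.fix_iff a b hab hN x hx hxa).2 hd)

theorem near_iff [Finite Ω] (g : Geo p m B ε XX) (hm : p + 2 ≤ m) (hB : 1 ≤ B) (hp : 1 ≤ p) {a b : Ω} :
    g.Near a b ↔ a ≠ b ∧ NF XX a b ∧ (Ln XX a b).ncard = 1 + B := by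
  constructor
  · rintro ⟨h1, h2, h3⟩
    refine ⟨h1, h2, ?_⟩
    rw [← Fl_eq_Ln g h1 h2, card_Fl g a (by omega) hp, h3]
    simp
  · rintro ⟨h1, h2, h3⟩
    refine ⟨h1, h2, ?_⟩
    have h4 := g.card_S a b h1 h2
    rw [← Fl_eq_Ln g h1 h2, card_Fl g a (by omega) hp] at h3
    rcases (show (g.S a b).card = 1 ∨ (g.S a b).card = 2 by omega) with h | h
    · exact h
    · exfalso
      rw [h] at h3
      omega

theorem NF_conj {a b : Ω} {k : Perm Ω} (hk : ∀ x ∈ XX, k * x * k⁻¹ ∈ XX) (h : NF XX a b) : NF XX (k a) (k b) := by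
  obtain ⟨x, hx, h1, h2⟩ := h
  refine ⟨k * x * k⁻¹, hk x hx, ?_, ?_⟩
  · simp [h1]
  · simp [h2]

theorem Ln_conj {a b : Ω} {k : Perm Ω} (hk : ∀ x ∈ XX, k⁻¹ * x * k ∈ XX) {y : Ω} (h : y ∈ Ln XX a b) :
    k y ∈ Ln XX (k a) (k b) := by
  intro x hx h1 h2
  have h3 := h (k⁻¹ * x * k) (hk x hx) (by simp [h1]) (by simp [h2])
  simp only [Perm.mul_apply] at h3
  rw [Perm.inv_eq_iff_eq] at h3
  exact h3

theorem near_conj [Finite Ω] (g : Geo p m B ε XX) (hm : p + 2 ≤ m) (hB : 1 ≤ B) (hp : 1 ≤ p) {a b : Ω} {k : Perm Ω}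
    (hk : ∀ x ∈ XX, k * x * k⁻¹ ∈ XX) (hk' : ∀ x ∈ XX, k⁻¹ * x * k ∈ XX) (h : g.Near a b) : g.Near (k a) (k b) := by
  rw [near_iff g hm hB hp] at h ⊢
  obtain ⟨h1, h2, h3⟩ := h
  refine ⟨fun h => h1 (k.injective h), NF_conj hk h2, ?_⟩
  rw [← h3]
  have h4 : Ln XX (k a) (k b) = k '' Ln XX a b := by
    ext y
    constructor
    · intro hy
      refine ⟨k⁻¹ y, ?_, by simp⟩
      have := Ln_conj (k := k⁻¹) (XX := XX) (a := k a) (b := k b) (by simpa using hk) hy
      simpa using this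
    · rintro ⟨z, hz, rfl⟩
      exact Ln_conj hk' hz
  rw [h4, Set.ncard_image_of_injective _ k.injective]

/-- connectedness of the collinearity graph -/
theorem Geo.conn (g : Geo p m B ε XX) [Finite Ω] (hm : p + 3 ≤ m) (hp : 3 ≤ p) (hB : 1 ≤ B) (K : Subgroup (Perm Ω))
    (hK : IsPreprimitive K Ω) (hXX : ∀ k ∈ K, ∀ x ∈ XX, k * x * k⁻¹ ∈ XX) : g.Conn := by
  intro a b
  have hsymm : ∀ c d, Relation.ReflTransGen g.Near c d → Relation.ReflTransGen g.Near d c := by
    intro c d h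
    induction h with
    | refl => exact Relation.ReflTransGen.refl
    | tail _ h2 ih => exact Relation.ReflTransGen.head (near_symm g (by omega) hB (by omega) h2) ih
  have hconj : ∀ k ∈ K, ∀ c d, Relation.ReflTransGen g.Near c d → Relation.ReflTransGen g.Near (k c) (k d) := by
    intro k hk c d h
    induction h with
    | refl => exact Relation.ReflTransGen.refl
    | tail _ h2 ih =>
      refine ih.tail (near_conj g (by omega) hB (by omega) (hXX k hk) ?_ h2)
      intro x hx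
      simpa using hXX k⁻¹ (inv_mem hk) x hx
  set Bl : Set Ω := {c | Relation.ReflTransGen g.Near a c} with hBl
  have hblock : IsBlock K Bl := by
    rw [isBlock_iff_smul_eq_or_disjoint]
    intro k
    by_cases h : Disjoint (k • Bl) Bl
    · exact Or.inr h
    left
    rw [Set.not_disjoint_iff] at h
    obtain ⟨y, ⟨z, hz, hzy⟩, hy⟩ := h
    have hzy' : (k : Perm Ω) z = y := hzy
    -- `k a` is connected with `a`
    have h1 : Relation.ReflTransGen g.Near ((k : Perm Ω) a) y := by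
      rw [← hzy']
      exact hconj k k.2 a z hz
    have h2 : Relation.ReflTransGen g.Near a ((k : Perm Ω) a) := Relation.ReflTransGen.trans hy (hsymm _ _ h1)
    ext w
    constructor
    · rintro ⟨v, hv, rfl⟩
      exact h2.trans (hconj k k.2 a v hv)
    · intro hw
      refine ⟨(k : Perm Ω)⁻¹ w, ?_, ?_⟩
      · change Relation.ReflTransGen g.Near a ((k : Perm Ω)⁻¹ w)
        have h3 := hconj (k : Perm Ω)⁻¹ (inv_mem k.2) ((k : Perm Ω) a) w ((hsymm _ _ h2).trans hw)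
        simpa using h3
      · change (k : Perm Ω) ((k : Perm Ω)⁻¹ w) = w
        simp
  have h0 : (0 : ℕ) < m := by omega
  have hne : ∃ c, g.Near a c := by
    have h1 := g.card_B a ⟨0, h0⟩
    have h2 : {b | a ≠ b ∧ NF XX a b ∧ g.S a b = {⟨0, h0⟩}}.Nonempty := by
      rw [Set.nonempty_iff_ne_empty]
      intro h3
      rw [h3, Set.ncard_empty] at h1
      omega
    obtain ⟨c, h3, h4, h5⟩ := h2
    exact ⟨c, h3, h4, by rw [h5, Finset.card_singleton]⟩
  obtain ⟨c, hc⟩ := hne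
  rcases hK.isTrivialBlock_of_isBlock hblock with h | h
  · exact absurd (h (show a ∈ Bl from Relation.ReflTransGen.refl) (show c ∈ Bl from Relation.ReflTransGen.single hc))
      hc.1
  · have : b ∈ Bl := by rw [h]; exact Set.mem_univ b
    exact this

end Cfsg.Agent.H117.PrA
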