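import Cfsg.Agent.H117.PrA.Geo1

/-!
# S3618, part A: the combinatorial structure `Geo` (helper117), the cases
-/

set_option autoImplicit false

open Equiv Equiv.Perm MulAction Cfsg.Agent.H411.PrA

namespace Cfsg.Agent.H117.PrA

universe u

variable {Ω : Type u} {p m B ε : ℕ} {XX : Set (Perm Ω)}

theorem mem_Fl_single (g : Geo p m B ε XX) (hm : p + 1 ≤ m) (hp : 1 ≤ p) {a y : Ω} {i : Fin m} (hy : y ≠ a)
    (h : y ∈ Fl g a {i}) : g.Near a y ∧ g.S a y = {i} := by
  rcases (mem_Fl g (by simp; omega) hp).1 h with h1 | ⟨h1, h2, h3⟩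
  · exact absurd h1 hy
  · have h4 := g.card_S a y h1 h2
    have h5 : g.S a y = {i} := by
      refine Finset.eq_of_subset_of_card_le h3 ?_
      rw [Finset.card_singleton]
      exact h4.1
    exact ⟨⟨h1, h2, by rw [h5, Finset.card_singleton]⟩, h5⟩

theorem mem_Fl_of_near (g : Geo p m B ε XX) {a y : Ω} {T : Finset (Fin m)} (h1 : a ≠ y) (h2 : NF XX a y)
    (h : g.S a y ⊆ T) : y ∈ Fl g a T := fun x hx hxa hd => (g.fix_iff a y h1 h2 x hx hxa).2 (hd.mono_right h)

theorem line_eq [Finite Ω] (g : Geo p m B ε XX) (hm : p + 1 ≤ m) (hB : 1 ≤ B) (hp : 1 ≤ p) {a c d e : Ω} {i k : Fin m}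
    (hd1 : d ∈ Fl g a {i}) (hd2 : d ∈ Fl g c {k}) (he1 : e ∈ Fl g a {i}) (he2 : e ∈ Fl g c {k}) (hde : d ≠ e) :
    Fl g a {i} = Fl g c {k} := by
  obtain ⟨T1, h1, h2, h3⟩ := rebase' g hB hp (by simp; omega) hd1
  obtain ⟨T2, h4, h5, h6⟩ := rebase' g hB hp (by simp; omega) hd2
  rw [Finset.card_singleton, Finset.card_eq_one] at h1 h4
  obtain ⟨i', rfl⟩ := h1
  obtain ⟨k', rfl⟩ := h4
  rw [h2, h5]
  obtain ⟨h7, h8⟩ := h3 e he1 hde.symm
  obtain ⟨-, h9⟩ := h6 e he2 hde.symm
  have h10 := g.card_S d e hde h7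
  have h11 : g.S d e = {i'} := Finset.eq_of_subset_of_card_le h8 (by rw [Finset.card_singleton]; exact h10.1)
  have h12 : g.S d e = {k'} := Finset.eq_of_subset_of_card_le h9 (by rw [Finset.card_singleton]; exact h10.1)
  rw [← h11, ← h12]

theorem exists_near (g : Geo p m B ε XX) (hB : 1 ≤ B) (a : Ω) (i : Fin m) : ∃ b, g.Near a b ∧ g.S a b = {i} := by
  have h1 := g.card_B a i
  have h2 : {b | a ≠ b ∧ NF XX a b ∧ g.S a b = {i}}.Nonempty := by
    rw [Set.nonempty_iff_ne_empty]
    intro h3
    rw [h3, Set.ncard_empty] at h1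
    omega
  obtain ⟨c, h3, h4, h5⟩ := h2
  exact ⟨c, ⟨h3, h4, by rw [h5, Finset.card_singleton]⟩, h5⟩

theorem near_unique (g : Geo p m 1 ε XX) {a b c : Ω} (h1 : g.Near a b) (h2 : g.Near a c)
    (h : g.S a b = g.S a c) : b = c := by
  obtain ⟨h3, h4, h5⟩ := h1
  obtain ⟨h6, h7, -⟩ := h2
  rw [Finset.card_eq_one] at h5
  obtain ⟨i, hi⟩ := h5
  have h8 := g.card_B a i
  rw [Set.ncard_eq_one] at h8
  obtain ⟨d, hd⟩ := h8
  have h9 : b ∈ ({d} : Set Ω) := by rw [← hd]; exact ⟨h3, h4, hi⟩
  have h10 : c ∈ ({d} : Set Ω) := by rw [← hd]; exact ⟨h6, h7, by rw [← h, hi]⟩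
  rw [Set.mem_singleton_iff] at h9 h10
  rw [h9, h10]

theorem exists_far (g : Geo p m B ε XX) (hε : 1 ≤ ε) (a : Ω) {i j : Fin m} (hij : i ≠ j) :
    ∃ b, a ≠ b ∧ NF XX a b ∧ g.S a b = {i, j} := by
  have h1 := g.card_ε a i j hij
  have h2 : {b | a ≠ b ∧ NF XX a b ∧ g.S a b = {i, j}}.Nonempty := by
    rw [Set.nonempty_iff_ne_empty]
    intro h3
    rw [h3, Set.ncard_empty] at h1
    omega
  exact h2

theorem far_unique (g : Geo p m B 1 XX) {a b c : Ω} (h1 : a ≠ b) (h2 : NF XX a b) (h3 : a ≠ c) (h4 : NF XX a c)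
    (h5 : (g.S a b).card = 2) (h : g.S a b = g.S a c) : b = c := by
  rw [Finset.card_eq_two] at h5
  obtain ⟨i, j, hij, hi⟩ := h5
  have h8 := g.card_ε a i j hij
  rw [Set.ncard_eq_one] at h8
  obtain ⟨d, hd⟩ := h8
  have h9 : b ∈ ({d} : Set Ω) := by rw [← hd]; exact ⟨h1, h2, hi⟩
  have h10 : c ∈ ({d} : Set Ω) := by rw [← hd]; exact ⟨h3, h4, by rw [← h, hi]⟩
  rw [Set.mem_singleton_iff] at h9 h10
  rw [h9, h10]

/-- `B ≤ 1 + ε` -/
theorem Geo.B_le (g : Geo p m B ε XX) [Finite Ω] [Nonempty Ω] (hm : p + 3 ≤ m) (hp : 3 ≤ p) (hB : 1 ≤ B) :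
    B ≤ 1 + ε := by
  classical
  obtain ⟨a⟩ := ‹Nonempty Ω›
  set i : Fin m := ⟨0, by omega⟩ with hi
  set j : Fin m := ⟨1, by omega⟩ with hj
  have hij : i ≠ j := by
    rw [hi, hj]
    intro h
    simp at h
  have hp1 : 1 ≤ p := by omega
  have hm1 : p + 1 ≤ m := by omega
  obtain ⟨c, hc1, hc2⟩ := exists_near g hB a i
  have hac : a ≠ c := hc1.1
  have hcF : c ∈ Fl g a {i, j} := mem_Fl_of_near g hac hc1.2.1 (by rw [hc2]; simp)
  have hcL : c ∈ Fl g a {i} := mem_Fl_of_near g hac hc1.2.1 (by rw [hc2])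
  have hc2' : ({i, j} : Finset (Fin m)).card + p ≤ m := by rw [Finset.card_pair hij]; omega
  obtain ⟨T', h1, h2, h3⟩ := rebase' g hB hp1 hc2' hcF
  obtain ⟨T1, h4, h5, h6⟩ := rebase' g hB hp1 (by simp; omega) hcL
  rw [Finset.card_singleton, Finset.card_eq_one] at h4
  obtain ⟨k, rfl⟩ := h4
  obtain ⟨h7, h8⟩ := h6 a (self_mem g _ _) hac
  have h9 := g.card_S c a hac.symm h7
  have hSca : g.S c a = {k} := Finset.eq_of_subset_of_card_le h8 (by rw [Finset.card_singleton]; exact h9.1)
  have hkT : k ∈ T' := by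
    have := (h3 a (self_mem g _ _) hac).2
    rw [hSca] at this
    exact this (Finset.mem_singleton_self k)
  rw [Finset.card_pair hij] at h1
  obtain ⟨l, hl⟩ : ∃ l, T'.erase k = {l} := by
    rw [← Finset.card_eq_one, Finset.card_erase_of_mem hkT, h1]
  have hlT : l ∈ T' := Finset.mem_of_mem_erase (hl ▸ Finset.mem_singleton_self l)
  have hlk : l ≠ k := Finset.ne_of_mem_erase (hl ▸ Finset.mem_singleton_self l)
  -- the second line
  have hcard : (Fl g c {l}).ncard = 1 + B := by
    rw [card_Fl g c (by simp; omega) hp1]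
    simp
  have hsub : Fl g c {l} \ {c} ⊆ (Fl g c {l} ∩ Fl g a {j}) ∪ {b | a ≠ b ∧ NF XX a b ∧ g.S a b = {i, j}} := by
    rintro y ⟨hy1, hy2⟩
    have hyc : y ≠ c := hy2
    obtain ⟨h10, h11⟩ := mem_Fl_single g hm1 hp1 hyc hy1
    have hyF : y ∈ Fl g a {i, j} := by
      rw [h2]
      exact mem_Fl_of_near g hyc.symm h10.2.1 (by rw [h11, Finset.singleton_subset_iff]; exact hlT)
    have hya : y ≠ a := by
      rintro rfl
      rw [h11, Finset.singleton_inj] at hSca
      exact hlk hSca
    rcases (mem_Fl g hc2' hp1).1 hyF with h12 | ⟨h12, h13, h14⟩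
    · exact absurd h12 hya
    -- `i ∈ S a y` implies that it is `{i, j}`
    by_cases hjS : j ∈ g.S a y
    · by_cases hiS : i ∈ g.S a y
      · right
        refine ⟨h12, h13, Finset.Subset.antisymm h14 ?_⟩
        intro t ht
        rw [Finset.mem_insert, Finset.mem_singleton] at ht
        rcases ht with rfl | rfl
        · exact hiS
        · exact hjS
      · left
        refine ⟨hy1, mem_Fl_of_near g h12 h13 ?_⟩
        intro t ht
        have := h14 ht
        rw [Finset.mem_insert, Finset.mem_singleton] at this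
        rcases this with rfl | rfl
        · exact absurd ht hiS
        · exact Finset.mem_singleton_self _
    · exfalso
      have h15 : y ∈ Fl g a {i} := by
        refine mem_Fl_of_near g h12 h13 ?_
        intro t ht
        have := h14 ht
        rw [Finset.mem_insert, Finset.mem_singleton] at this
        rcases this with rfl | rfl
        · exact Finset.mem_singleton_self _
        · exact absurd ht hjS
      obtain ⟨-, h16⟩ := h6 y h15 hyc
      rw [h11, Finset.singleton_subset_iff, Finset.mem_singleton] at h16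
      exact hlk h16
  have hX : (Fl g c {l} ∩ Fl g a {j}).ncard ≤ 1 := by
    rw [Set.ncard_le_one (Set.toFinite _)]
    rintro d ⟨hd1, hd2⟩ e ⟨he1, he2⟩
    by_contra hde
    have h10 := line_eq g hm1 hB hp1 hd1 hd2 he1 he2 hde
    have h11 : c ∈ Fl g a {j} := by
      rw [← h10]; exact self_mem g _ _
    obtain ⟨-, h12⟩ := mem_Fl_single g hm1 hp1 hac.symm h11
    rw [hc2, Finset.singleton_inj] at h12
    exact hij h12
  have h10 := Set.ncard_le_ncard hsub (Set.toFinite _)
  rw [Set.ncard_sdiff_singleton_of_mem (self_mem g c _), hcard] at h10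
  have h11 := Set.ncard_union_le (Fl g c {l} ∩ Fl g a {j}) {b | a ≠ b ∧ NF XX a b ∧ g.S a b = {i, j}}
  have h12 := g.card_ε a i j hij
  have h13 : {b | a ≠ b ∧ NF XX a b ∧ g.S a b = {i, j}}.ncard ≤ ε := h12.le
  omega

/-- `B = 1`, `ε = 0` -/
theorem Geo.case10 (g : Geo p m 1 0 XX) [Finite Ω] [Nonempty Ω] (hm : p + 3 ≤ m) (hp : 3 ≤ p) (hc : g.Conn) :
    Nat.card Ω = m + 1 := by
  classical
  have hp1 : 1 ≤ p := by omega
  have hnear : ∀ a b : Ω, a ≠ b → NF XX a b → g.Near a b := by
    intro a b hab hN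
    refine ⟨hab, hN, ?_⟩
    have h1 := g.card_S a b hab hN
    rcases (show (g.S a b).card = 1 ∨ (g.S a b).card = 2 by omega) with h | h
    · exact h
    · exfalso
      rw [Finset.card_eq_two] at h
      obtain ⟨i, j, hij, hS⟩ := h
      have h2 := g.card_ε a i j hij
      rw [Set.ncard_eq_zero] at h2
      have h3 : b ∈ {b | a ≠ b ∧ NF XX a b ∧ g.S a b = {i, j}} := ⟨hab, hN, hS⟩
      rw [h2] at h3
      exact h3
  have htri : ∀ a b c : Ω, g.Near a b → g.Near a c → b ≠ c → g.Near b c := by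
    intro a b c h1 h2 hbc
    refine hnear b c hbc ?_
    have h3 : (g.S a b ∪ g.S a c).card + p ≤ m := by
      have := Finset.card_union_le (g.S a b) (g.S a c)
      rw [h1.2.2, h2.2.2] at this
      omega
    have hb : b ∈ Fl g a (g.S a b ∪ g.S a c) := mem_Fl_of_near g h1.1 h1.2.1 Finset.subset_union_left
    have hc : c ∈ Fl g a (g.S a b ∪ g.S a c) := mem_Fl_of_near g h2.1 h2.2.1 Finset.subset_union_right
    obtain ⟨T', -, -, h4, -⟩ := rebase g h3 hb
    exact (h4 c hc hbc.symm).1
  obtain ⟨a⟩ := ‹Nonempty Ω›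
  have hall : ∀ b, b = a ∨ g.Near a b := by
    intro b
    have h := hc a b
    induction h with
    | refl => exact Or.inl rfl
    | @tail c d _ h2 ih =>
      rcases ih with rfl | ih
      · exact Or.inr h2
      · by_cases hda : d = a
        · exact Or.inl hda
        · right
          exact htri c a d (near_symm g (by omega) le_rfl hp1 ih) h2 (Ne.symm hda)
  choose f hf1 hf2 using exists_near g (le_refl 1) a
  have hbij : Function.Bijective (fun o : Option (Fin m) => o.elim a f) := by
    constructor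
    · rintro (_ | i) (_ | j) h
      · rfl
      · exact absurd h (hf1 j).1
      · exact absurd h.symm (hf1 i).1
      · have h1 : f i = f j := h
        have h2 := hf2 i
        rw [h1, hf2 j, Finset.singleton_inj] at h2
        rw [h2]
    · intro b
      rcases hall b with rfl | h
      · exact ⟨none, rfl⟩
      · obtain ⟨i, hi⟩ := Finset.card_eq_one.1 h.2.2
        refine ⟨some i, ?_⟩
        exact near_unique g (hf1 i) h ((hf2 i).trans hi.symm)
  rw [← Nat.card_congr (Equiv.ofBijective _ hbij), Nat.card_eq_fintype_card, Fintype.card_option, Fintype.card_fin]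

/-! ### `B = 1`, `ε = 1` -/

section case11

variable [Finite Ω] (g : Geo p m 1 1 XX)

include g in
/-- `d` near to `b` and `c` -/
theorem claimD (hm : p + 3 ≤ m) (hp : 3 ≤ p) {a b c d : Ω} (hb : g.Near a b) (hc : g.Near a c) (hbc : b ≠ c)
    (hd : a ≠ d) (hdN : NF XX a d) (hS : g.S a d = g.S a b ∪ g.S a c) : g.Near b d ∧ g.Near c d := by
  classical
  have hp1 : 1 ≤ p := by omega
  obtain ⟨i, hi⟩ := Finset.card_eq_one.1 hb.2.2
  obtain ⟨j, hj⟩ := Finset.card_eq_one.1 hc.2.2
  have hij : i ≠ j := by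
    rintro rfl
    exact hbc (near_unique g hb hc (by rw [hi, hj]))
  have hSd : g.S a d = {i, j} := by rw [hS, hi, hj]; rfl
  have hcard : ({i, j} : Finset (Fin m)).card + p ≤ m := by rw [Finset.card_pair hij]; omega
  have hdF : d ∈ Fl g a {i, j} := mem_Fl_of_near g hd hdN (by rw [hSd])
  obtain ⟨T', h1, h2, h3⟩ := rebase' g le_rfl hp1 hcard hdF
  rw [Finset.card_pair hij, Finset.card_eq_two] at h1
  obtain ⟨k, l, hkl, rfl⟩ := h1
  have hTcard : ({k, l} : Finset (Fin m)).card + p ≤ m := by rw [Finset.card_pair hkl]; omega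
  -- a near point of `d` in the flat is `b` or `c`
  have key : ∀ y, g.Near d y → g.S d y ⊆ {k, l} → y = b ∨ y = c := by
    intro y hy hyS
    have hyF : y ∈ Fl g a {i, j} := by
      rw [h2]
      exact mem_Fl_of_near g hy.1 hy.2.1 hyS
    rcases (mem_Fl g hcard hp1).1 hyF with h4 | ⟨h4, h5, h6⟩
    · exfalso
      rw [h4] at hy
      have h5 := near_symm g (by omega) le_rfl hp1 hy
      have h6 := h5.2.2
      rw [hSd, Finset.card_pair hij] at h6
      omega
    · have h7 := g.card_S a y h4 h5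
      rcases (show (g.S a y).card = 1 ∨ (g.S a y).card = 2 by omega) with h | h
      · obtain ⟨t, ht⟩ := Finset.card_eq_one.1 h
        rw [ht, Finset.singleton_subset_iff, Finset.mem_insert, Finset.mem_singleton] at h6
        rcases h6 with rfl | rfl
        · left
          exact near_unique g ⟨h4, h5, h⟩ hb (by rw [ht, hi])
        · right
          exact near_unique g ⟨h4, h5, h⟩ hc (by rw [ht, hj])
      · exfalso
        have h8 : g.S a y = {i, j} :=
          Finset.eq_of_subset_of_card_le h6 (by rw [h, Finset.card_pair hij])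
        have h9 := far_unique g h4 h5 hd hdN h (by rw [h8, hSd])
        rw [h9] at hy
        exact hy.1 rfl
  obtain ⟨y, hy1, hy2⟩ := exists_near g (le_refl 1) d k
  obtain ⟨z, hz1, hz2⟩ := exists_near g (le_refl 1) d l
  have hyz : y ≠ z := by
    rintro rfl
    rw [hy2, Finset.singleton_inj] at hz2
    exact hkl hz2
  have h4 := key y hy1 (by rw [hy2]; simp)
  have h5 := key z hz1 (by rw [hz2]; simp)
  rcases h4 with rfl | rfl
  · rcases h5 with h5 | rfl
    · exact absurd h5.symm hyz
    · exact ⟨near_symm g (by omega) le_rfl hp1 hy1, near_symm g (by omega) le_rfl hp1 hz1⟩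
  · rcases h5 with rfl | h5
    · exact ⟨near_symm g (by omega) le_rfl hp1 hz1, near_symm g (by omega) le_rfl hp1 hy1⟩
    · exact absurd h5.symm hyz

include g in
/-- no triangles -/
theorem claimT (hm : p + 3 ≤ m) (hp : 3 ≤ p) {a b c : Ω} (hb : g.Near a b) (hc : g.Near a c) (hbc : b ≠ c) :
    ¬ g.Near b c := by
  classical
  intro hnear
  have hp1 : 1 ≤ p := by omega
  obtain ⟨i, hi⟩ := Finset.card_eq_one.1 hb.2.2
  obtain ⟨j, hj⟩ := Finset.card_eq_one.1 hc.2.2
  have hij : i ≠ j := by
    rintro rfl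
    exact hbc (near_unique g hb hc (by rw [hi, hj]))
  obtain ⟨d, hd, hdN, hSd⟩ := exists_far g (le_refl 1) a hij
  have hcard : ({i, j} : Finset (Fin m)).card + p ≤ m := by rw [Finset.card_pair hij]; omega
  obtain ⟨hbd, hcd⟩ := claimD g hm hp hb hc hbc hd hdN (by rw [hSd, hi, hj]; rfl)
  have hbF : b ∈ Fl g a {i, j} := mem_Fl_of_near g hb.1 hb.2.1 (by rw [hi]; simp)
  have hcF : c ∈ Fl g a {i, j} := mem_Fl_of_near g hc.1 hc.2.1 (by rw [hj]; simp)
  have hdF : d ∈ Fl g a {i, j} := mem_Fl_of_near g hd hdN (by rw [hSd])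
  obtain ⟨T', h1, h2, h3⟩ := rebase' g le_rfl hp1 hcard hbF
  have hba := near_symm g (by omega) le_rfl hp1 hb
  have h4 := (h3 a (self_mem g _ _) hb.1).2
  have h5 := (h3 c hcF hbc.symm).2
  have h6 := (h3 d hdF hbd.1.symm).2
  obtain ⟨x, hx⟩ := Finset.card_eq_one.1 hba.2.2
  obtain ⟨y, hy⟩ := Finset.card_eq_one.1 hnear.2.2
  obtain ⟨z, hz⟩ := Finset.card_eq_one.1 hbd.2.2
  have hcd' : c ≠ d := hcd.1
  have hxy : x ≠ y := by
    rintro rfl
    exact hc.1 (near_unique g hba hnear (by rw [hx, hy]))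
  have hxz : x ≠ z := by
    rintro rfl
    exact hd (near_unique g hba hbd (by rw [hx, hz]))
  have hyz : y ≠ z := by
    rintro rfl
    exact hcd' (near_unique g hnear hbd (by rw [hy, hz]))
  have h7 : ({x, y, z} : Finset (Fin m)) ⊆ T' := by
    intro t ht
    simp only [Finset.mem_insert, Finset.mem_singleton] at ht
    rcases ht with rfl | rfl | rfl
    · exact h4 (by rw [hx]; exact Finset.mem_singleton_self _)
    · exact h5 (by rw [hy]; exact Finset.mem_singleton_self _)
    · exact h6 (by rw [hz]; exact Finset.mem_singleton_self _)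
  have h8 := Finset.card_le_card h7
  rw [Finset.card_eq_three.2 ⟨x, y, z, hxy, hxz, hyz, rfl⟩, h1, Finset.card_pair hij] at h8
  omega

include g in
/-- `B = 1`, `ε = 1` is impossible -/
theorem Geo.case11' [Nonempty Ω] (hm : p + 3 ≤ m) (hp : 3 ≤ p) : False := by
  classical
  have hp1 : 1 ≤ p := by omega
  have hm1 : p + 1 ≤ m := by omega
  obtain ⟨a⟩ := ‹Nonempty Ω›
  set i : Fin m := ⟨0, by omega⟩ with hi
  set j : Fin m := ⟨1, by omega⟩ with hj
  have hij : i ≠ j := by
    rw [hi, hj]
    intro h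
    simp at h
  obtain ⟨b, hb, hbS⟩ := exists_near g (le_refl 1) a i
  obtain ⟨c, hc, hcS⟩ := exists_near g (le_refl 1) a j
  have hbc : b ≠ c := by
    rintro rfl
    rw [hbS, Finset.singleton_inj] at hcS
    exact hij hcS
  obtain ⟨d, hd, hdN, hSd⟩ := exists_far g (le_refl 1) a hij
  have hdcard : (g.S a d).card = 2 := by rw [hSd, Finset.card_pair hij]
  obtain ⟨hbd, hcd⟩ := claimD g hm hp hb hc hbc hd hdN (by rw [hSd, hbS, hcS]; rfl)
  have hdb := near_symm g hm1 le_rfl hp1 hbd
  have hdc := near_symm g hm1 le_rfl hp1 hcd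
  obtain ⟨k, hk⟩ := Finset.card_eq_one.1 hdb.2.2
  obtain ⟨l, hl⟩ := Finset.card_eq_one.1 hdc.2.2
  have hkl : k ≠ l := by
    rintro rfl
    exact hbc (near_unique g hdb hdc (by rw [hk, hl]))
  -- a third index
  obtain ⟨t, ht⟩ : ∃ t : Fin m, t ∉ ({k, l} : Finset (Fin m)) := by
    by_contra hne
    push Not at hne
    have h1 : (Finset.univ : Finset (Fin m)) ⊆ {k, l} := fun t _ => hne t
    have h2 := Finset.card_le_card h1
    rw [Finset.card_univ, Fintype.card_fin, Finset.card_pair hkl] at h2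
    omega
  rw [Finset.mem_insert, Finset.mem_singleton, not_or] at ht
  obtain ⟨htk, htl⟩ := ht
  obtain ⟨z, hz, hzS⟩ := exists_near g (le_refl 1) d t
  have hzb : z ≠ b := by
    rintro rfl
    rw [hzS, Finset.singleton_inj] at hk
    exact htk hk
  have hzc : z ≠ c := by
    rintro rfl
    rw [hzS, Finset.singleton_inj] at hl
    exact htl hl
  have hnda : ¬ g.Near a d := by
    intro h
    have := h.2.2
    omega
  have hza : z ≠ a := by
    rintro rfl
    exact hnda (near_symm g hm1 le_rfl hp1 hz)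
  -- `a` in the flat at `d`
  have hcard : ({i, j} : Finset (Fin m)).card + p ≤ m := by rw [Finset.card_pair hij]; omega
  have hbF : b ∈ Fl g a {i, j} := mem_Fl_of_near g hb.1 hb.2.1 (by rw [hbS]; simp)
  have hcF : c ∈ Fl g a {i, j} := mem_Fl_of_near g hc.1 hc.2.1 (by rw [hcS]; simp)
  have hdF : d ∈ Fl g a {i, j} := mem_Fl_of_near g hd hdN (by rw [hSd])
  obtain ⟨T1, h1, h2, h3⟩ := rebase' g le_rfl hp1 hcard hdF
  rw [Finset.card_pair hij] at h1
  have hT1 : T1 = {k, l} := by
    symm
    refine Finset.eq_of_subset_of_card_le ?_ (by rw [h1, Finset.card_pair hkl])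
    intro s hs
    rw [Finset.mem_insert, Finset.mem_singleton] at hs
    rcases hs with rfl | rfl
    · exact (h3 b hbF hdb.1.symm).2 (by rw [hk]; exact Finset.mem_singleton_self _)
    · exact (h3 c hcF hdc.1.symm).2 (by rw [hl]; exact Finset.mem_singleton_self _)
  obtain ⟨hda, hdaS⟩ := h3 a (self_mem g _ _) hd
  rw [hT1] at hdaS
  have hT3 : ({k, l, t} : Finset (Fin m)).card = 3 :=
    Finset.card_eq_three.2 ⟨k, l, t, hkl, fun h => htk h.symm, fun h => htl h.symm, rfl⟩
  have haF3 : a ∈ Fl g d {k, l, t} := by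
    refine mem_Fl_of_near g hd.symm hda (hdaS.trans ?_)
    intro s hs
    simp only [Finset.mem_insert, Finset.mem_singleton] at hs ⊢
    tauto
  have hbF3 : b ∈ Fl g d {k, l, t} := mem_Fl_of_near g hdb.1 hdb.2.1 (by rw [hk]; simp)
  have hcF3 : c ∈ Fl g d {k, l, t} := mem_Fl_of_near g hdc.1 hdc.2.1 (by rw [hl]; simp)
  have hzF3 : z ∈ Fl g d {k, l, t} := mem_Fl_of_near g hz.1 hz.2.1 (by rw [hzS]; simp)
  obtain ⟨T4, h4, h5, h6⟩ := rebase' g le_rfl hp1 (by rw [hT3]; omega) haF3
  rw [hT3] at h4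
  obtain ⟨haz, hzS4⟩ := h6 z hzF3 hza
  have hi4 : i ∈ T4 := (h6 b hbF3 hb.1.symm).2 (by rw [hbS]; exact Finset.mem_singleton_self _)
  have hj4 : j ∈ T4 := (h6 c hcF3 hc.1.symm).2 (by rw [hcS]; exact Finset.mem_singleton_self _)
  have h7 := g.card_S a z hza.symm haz
  rcases (show (g.S a z).card = 1 ∨ (g.S a z).card = 2 by omega) with h | h
  · -- `z` is near to `a`
    have hazn : g.Near a z := ⟨hza.symm, haz, h⟩
    obtain ⟨s, hs⟩ := Finset.card_eq_one.1 h
    have hsi : s ≠ i := by
      rintro rfl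
      exact hzb (near_unique g hazn hb (by rw [hs, hbS]))
    have hsj : s ≠ j := by
      rintro rfl
      exact hzc (near_unique g hazn hc (by rw [hs, hcS]))
    have hzan := near_symm g hm1 le_rfl hp1 hazn
    have hzdn := near_symm g hm1 le_rfl hp1 hz
    have h8 : (g.S z a ∪ g.S z d).card ≤ 2 := by
      have := Finset.card_union_le (g.S z a) (g.S z d)
      rw [hzan.2.2, hzdn.2.2] at this
      exact this
    have haF : a ∈ Fl g z (g.S z a ∪ g.S z d) := mem_Fl_of_near g hzan.1 hzan.2.1 Finset.subset_union_left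
    have hdF' : d ∈ Fl g z (g.S z a ∪ g.S z d) := mem_Fl_of_near g hzdn.1 hzdn.2.1 Finset.subset_union_right
    obtain ⟨T5, h9, h10, h11⟩ := rebase' g le_rfl hp1 (by omega) haF
    have h12 := (h11 z (self_mem g _ _) hza).2
    have h13 := (h11 d hdF' hd.symm).2
    rw [hs] at h12
    rw [hSd] at h13
    have h14 : ({s, i, j} : Finset (Fin m)) ⊆ T5 := by
      intro r hr
      rw [Finset.mem_insert] at hr
      rcases hr with rfl | hr
      · exact h12 (Finset.mem_singleton_self _)
      · exact h13 hr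
    have h15 := Finset.card_le_card h14
    rw [Finset.card_eq_three.2 ⟨s, i, j, hsi, hsj, hij, rfl⟩, h9] at h15
    omega
  · -- `S a z` is a pair which meets `{i, j}`
    have hzd : g.S a z ≠ {i, j} := by
      intro h8
      exact hz.1 (far_unique g hd hdN hza.symm haz hdcard (by rw [h8, hSd]))
    have hmeet : i ∈ g.S a z ∨ j ∈ g.S a z := by
      by_contra hne
      rw [not_or] at hne
      have h8 : g.S a z ∪ {i, j} ⊆ T4 := by
        refine Finset.union_subset hzS4 ?_
        intro r hr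
        rw [Finset.mem_insert, Finset.mem_singleton] at hr
        rcases hr with rfl | rfl
        · exact hi4
        · exact hj4
      have h9 := Finset.card_le_card h8
      rw [Finset.card_union_of_disjoint, h, Finset.card_pair hij, h4] at h9
      · omega
      · rw [Finset.disjoint_right]
        intro r hr
        rw [Finset.mem_insert, Finset.mem_singleton] at hr
        rcases hr with rfl | rfl
        · exact hne.1
        · exact hne.2
    -- the general step
    have step : ∀ (r : Fin m) (w : Ω), g.Near a w → g.S a w = {r} → g.Near d w → r ∈ g.S a z → False := by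
      intro r w haw hwS hdw hr
      obtain ⟨s, hs⟩ : ∃ s, (g.S a z).erase r = {s} := by
        rw [← Finset.card_eq_one, Finset.card_erase_of_mem hr, h]
      have hsr : s ≠ r := Finset.ne_of_mem_erase (hs ▸ Finset.mem_singleton_self s)
      have hSz : g.S a z = {r} ∪ {s} := by
        rw [← hs, ← Finset.insert_eq, Finset.insert_erase hr]
      obtain ⟨v, hv, hvS⟩ := exists_near g (le_refl 1) a s
      have hwv : w ≠ v := by
        rintro rfl
        rw [hwS, Finset.singleton_inj] at hvS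
        exact hsr hvS.symm
      obtain ⟨h8, -⟩ := claimD g hm hp haw hv hwv hza.symm haz (by rw [hSz, hwS, hvS])
      have hwz : w ≠ z := h8.1
      exact claimT g hm hp hdw hz hwz h8
    rcases hmeet with h8 | h8
    · exact step i b hb hbS hdb h8
    · exact step j c hc hcS hdc h8

end case11

theorem Geo.case11 (g : Geo p m 1 1 XX) [Finite Ω] [Nonempty Ω] (hm : p + 3 ≤ m) (hp : 3 ≤ p) (_hc : g.Conn) :
    False :=
  Geo.case11' g hm hp

theorem choose_two_inj {r s : ℕ} (hs : 2 ≤ s) (h : r.choose 2 = s.choose 2) : r = s := by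
  have key : ∀ a b : ℕ, a < b → 2 ≤ b → a.choose 2 < b.choose 2 := by
    intro a b hab hb
    rcases Nat.eq_zero_or_pos a with rfl | ha
    · simpa using Nat.choose_pos hb
    · calc a.choose 2 < (a + 1).choose 2 := by
            rw [Nat.choose_succ_succ' a 1, Nat.choose_one_right]
            exact Nat.lt_add_of_pos_left ha
        _ ≤ b.choose 2 := Nat.choose_le_choose 2 hab
  rcases lt_trichotomy r s with h1 | h1 | h1
  · have := key r s h1 hs; omega
  · exact h1
  · have := key s r h1 (by omega); omega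

/-- `B = 0`, `ε = 1` is impossible -/
theorem Geo.case01 (g : Geo p m 0 1 XX) [Finite Ω] [Nonempty Ω] (hm : p + 5 ≤ m) (hp : 3 ≤ p) : False := by
  classical
  have := Fintype.ofFinite Ω
  have hp1 : 1 ≤ p := by omega
  obtain ⟨a⟩ := ‹Nonempty Ω›
  obtain ⟨T, -, hT⟩ := Finset.exists_subset_card_eq (s := (Finset.univ : Finset (Fin m))) (n := 5)
    (by rw [Finset.card_univ, Fintype.card_fin]; omega)
  -- flats have the right rank
  have reb : ∀ (c d : Ω) (U : Finset (Fin m)), 2 ≤ U.card → U.card + p ≤ m → d ∈ Fl g c U →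
      ∃ U' : Finset (Fin m), U'.card = U.card ∧ Fl g c U = Fl g d U' ∧
        (∀ y ∈ Fl g c U, y ≠ d → NF XX d y ∧ g.S d y ⊆ U') := by
    intro c d U hU hUm hd
    obtain ⟨U', h1, h2, h3, -⟩ := rebase g hUm hd
    refine ⟨U', ?_, h2, h3⟩
    have h4 := card_Fl g c hUm hp1
    rw [h2, card_Fl g d h1 hp1] at h4
    exact choose_two_inj hU (by omega)
  -- a flat determines its set
  have inj : ∀ (c : Ω) (U U' : Finset (Fin m)), 2 ≤ U.card → U'.card + p ≤ m → Fl g c U = Fl g c U' → U ⊆ U' := by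
    intro c U U' hU hUm h t ht
    obtain ⟨s, hs, hst⟩ : ∃ s ∈ U, s ≠ t := Finset.exists_mem_ne (by omega) t
    obtain ⟨y, hy1, hy2, hy3⟩ := exists_far g (le_refl 1) c hst.symm
    have hyU : y ∈ Fl g c U := by
      refine mem_Fl_of_near g hy1 hy2 ?_
      rw [hy3]
      intro r hr
      rw [Finset.mem_insert, Finset.mem_singleton] at hr
      rcases hr with rfl | rfl
      · exact ht
      · exact hs
    rw [h] at hyU
    rcases (mem_Fl g hUm hp1).1 hyU with h1 | ⟨-, -, h1⟩
    · exact absurd h1.symm hy1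
    · rw [hy3] at h1
      exact h1 (Finset.mem_insert_self _ _)
  set F : Finset Ω := (Fl g a T).toFinite.toFinset with hF
  have hFmem : ∀ y, y ∈ F ↔ y ∈ Fl g a T := fun y => by rw [hF, Set.Finite.mem_toFinset]
  have hFcard : F.card = 11 := by
    rw [hF, ← Set.ncard_eq_toFinset_card, card_Fl g a (by omega) hp1, hT]
    rfl
  set GG : Finset (Finset Ω) := Finset.univ.filter
    (fun G => G ⊆ F ∧ ∃ c, ∃ U : Finset (Fin m), U.card = 4 ∧ (G : Set Ω) = Fl g c U) with hGG
  have hGcard : ∀ G ∈ GG, (F ∩ G).card = 7 := by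
    intro G hG
    rw [hGG, Finset.mem_filter] at hG
    obtain ⟨-, h1, c, U, h2, h3⟩ := hG
    rw [Finset.inter_eq_right.2 h1, ← Set.ncard_coe_finset, h3, card_Fl g c (by omega) hp1, h2]
    rfl
  have hdeg : ∀ c ∈ F, (GG.filter (fun G => c ∈ G)).card = 5 := by
    intro c hc
    rw [hFmem] at hc
    obtain ⟨T', h1, h2, h3⟩ := reb a c T (by omega) (by omega) hc
    have h4 : GG.filter (fun G => c ∈ G) =
        (Finset.powersetCard 4 T').image (fun U => (Fl g c U).toFinite.toFinset) := by
      ext G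
      rw [Finset.mem_filter, Finset.mem_image, hGG, Finset.mem_filter]
      constructor
      · rintro ⟨⟨-, h5, d, U, h6, h7⟩, h8⟩
        have h9 : c ∈ Fl g d U := by rw [← h7]; exact h8
        obtain ⟨U', h10, h11, h12⟩ := reb d c U (by omega) (by omega) h9
        refine ⟨U', ?_, ?_⟩
        · rw [Finset.mem_powersetCard]
          refine ⟨?_, by rw [h10, h6]⟩
          -- each `t ∈ U'` is in some `S c y`
          intro t ht
          obtain ⟨s, hs, hst⟩ : ∃ s ∈ U', s ≠ t := Finset.exists_mem_ne (by omega) t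
          obtain ⟨y, hy1, hy2, hy3⟩ := exists_far g (le_refl 1) c hst.symm
          have hyU : y ∈ Fl g c U' := by
            refine mem_Fl_of_near g hy1 hy2 ?_
            rw [hy3]
            intro r hr
            rw [Finset.mem_insert, Finset.mem_singleton] at hr
            rcases hr with rfl | rfl
            · exact ht
            · exact hs
          have hyF : y ∈ Fl g a T := by
            rw [← hFmem]
            apply h5
            rw [← Finset.mem_coe, h7, h11]
            exact hyU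
          have h13 := (h3 y hyF hy1.symm).2
          rw [hy3] at h13
          exact h13 (Finset.mem_insert_self _ _)
        · rw [← Finset.coe_inj, h7, h11]
          simp
      · rintro ⟨U, hU, rfl⟩
        rw [Finset.mem_powersetCard] at hU
        refine ⟨⟨Finset.mem_univ _, ?_, c, U, hU.2, by simp⟩, ?_⟩
        · intro y hy
          rw [Set.Finite.mem_toFinset] at hy
          rw [hFmem, h2]
          intro x hx hxc hd
          exact hy x hx hxc (hd.mono_right hU.1)
        · rw [Set.Finite.mem_toFinset]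
          exact self_mem g _ _
    rw [h4, Finset.card_image_of_injOn, Finset.card_powersetCard, h1, hT]
    · rfl
    · intro U hU U' hU' h5
      rw [Finset.mem_coe, Finset.mem_powersetCard] at hU hU'
      have h6 : Fl g c U = Fl g c U' := by
        ext y
        have := congrArg (fun W : Finset Ω => y ∈ W) h5
        simpa using this
      exact Finset.Subset.antisymm (inj c U U' (by omega) (by omega) h6) (inj c U' U (by omega) (by omega) h6.symm)
  have h1 := Finset.sum_card_inter hdeg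
  rw [Finset.sum_congr rfl hGcard, Finset.sum_const, smul_eq_mul, hFcard] at h1
  omega

end Cfsg.Agent.H117.PrA
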